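import Mathlib

set_option autoImplicit false

/-! Stabilisers of partitions in symmetric and alternating groups. -/

namespace H98

open Equiv Equiv.Perm MulAction

variable {Ω : Type*} {ι : Type*}

/-- The permutations preserving the partition into the fibres of `f`. -/
def partStab (f : Ω → ι) : Subgroup (Perm Ω) where
  carrier := {g | ∀ x y, f x = f y ↔ f (g x) = f (g y)}
  mul_mem' {g h} hg hh x y := by
    rw [hh x y, hg]; rfl
  one_mem' x y := Iff.rfl
  inv_mem' {g} hg x y := by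
    rw [hg (g⁻¹ x) (g⁻¹ y)]; simp

theorem mem_partStab {f : Ω → ι} {g : Perm Ω} :
    g ∈ partStab f ↔ ∀ x y, f x = f y ↔ f (g x) = f (g y) := Iff.rfl

theorem closure_partStab (f : Ω → ι) :
    Subgroup.closure {g : Perm Ω | ∀ x y : Ω, f x = f y ↔ f (g x) = f (g y)} = partStab f :=
  Subgroup.closure_eq (partStab f)

theorem mem_partStab_of_comp {f : Ω → ι} {g : Perm Ω} (σ : ι → ι) (hσ : Function.Injective σ)
    (h : ∀ x, f (g x) = σ (f x)) : g ∈ partStab f := by
  intro x y
  rw [h, h, hσ.eq_iff]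

theorem apply_swap_of_eq [DecidableEq Ω] {f : Ω → ι} {x y : Ω} (h : f x = f y) (z : Ω) :
    f (swap x y z) = f z := by
  rw [swap_apply_def]
  split_ifs with h1 h2
  · rw [h1, h]
  · rw [h2, h]
  · rfl

theorem swap_mem_partStab [DecidableEq Ω] {f : Ω → ι} {x y : Ω} (h : f x = f y) :
    swap x y ∈ partStab f :=
  mem_partStab_of_comp id Function.injective_id (apply_swap_of_eq h)

/-- If `g` does not preserve the partition then `g` or `g⁻¹` breaks up a block. -/
theorem exists_break {f : Ω → ι} {K : Subgroup (Perm Ω)} (hK : ¬ K ≤ partStab f) :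
    ∃ g ∈ K, ∃ x y, f x = f y ∧ f (g x) ≠ f (g y) := by
  obtain ⟨g, hg, hn⟩ := SetLike.not_le_iff_exists.1 hK
  by_contra hc
  push Not at hc
  apply hn
  intro x y
  refine ⟨hc g hg x y, fun h => ?_⟩
  simpa using hc g⁻¹ (K.inv_mem hg) _ _ h

theorem exists_blockSwap [Finite Ω] [DecidableEq ι] (f : Ω → ι) (i j : ι)
    (h : Nat.card {x // f x = i} = Nat.card {x // f x = j}) :
    ∃ w : Perm Ω, (∀ x, f (w x) = swap i j (f x)) ∧ ∀ x, f x ≠ i → f x ≠ j → w x = x := by
  by_cases hij : i = j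
  · subst hij
    exact ⟨1, by simp, by simp⟩
  obtain ⟨e⟩ := Finite.card_eq.1 h
  let w : Ω → Ω := fun x =>
    if h1 : f x = i then (e ⟨x, h1⟩ : Ω) else if h2 : f x = j then (e.symm ⟨x, h2⟩ : Ω) else x
  have hw1 : ∀ x (h1 : f x = i), w x = e ⟨x, h1⟩ := fun x h1 => dif_pos h1
  have hw2 : ∀ x (h2 : f x = j), w x = e.symm ⟨x, h2⟩ := fun x h2 => by
    have h1 : ¬ f x = i := fun h1 => hij (h1.symm.trans h2)
    simp only [w, dif_neg h1, dif_pos h2]
  have hw3 : ∀ x, f x ≠ i → f x ≠ j → w x = x := fun x h1 h2 => by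
    simp only [w, dif_neg h1, dif_neg h2]
  have hinv : Function.Involutive w := by
    intro x
    by_cases h1 : f x = i
    · rw [hw1 x h1, hw2 _ (e ⟨x, h1⟩).2]; simp
    · by_cases h2 : f x = j
      · rw [hw2 x h2, hw1 _ (e.symm ⟨x, h2⟩).2]; simp
      · rw [hw3 x h1 h2, hw3 x h1 h2]
  refine ⟨hinv.toPerm w, fun x => ?_, hw3⟩
  show f (w x) = _
  by_cases h1 : f x = i
  · rw [hw1 x h1, (e ⟨x, h1⟩).2, h1, swap_apply_left]
  · by_cases h2 : f x = j
    · rw [hw2 x h2, (e.symm ⟨x, h2⟩).2, h2, swap_apply_right]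
    · rw [hw3 x h1 h2, swap_apply_of_ne_of_ne h1 h2]

/-- Any point can be moved to any other, fixing all points outside the two blocks involved. -/
theorem exists_move [Finite Ω] (f : Ω → ι) (y z : Ω)
    (h : Nat.card {x // f x = f y} = Nat.card {x // f x = f z}) :
    ∃ w ∈ partStab f, w y = z ∧ ∀ x, f x ≠ f y → f x ≠ f z → w x = x := by
  classical
  obtain ⟨w, hw1, hw2⟩ := exists_blockSwap f (f y) (f z) h
  have h1 : f (w y) = f z := by rw [hw1, swap_apply_left]
  refine ⟨swap (w y) z * w, (partStab f).mul_mem (swap_mem_partStab h1)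
    (mem_partStab_of_comp _ (swap (f y) (f z)).injective hw1), by simp, fun x hx1 hx2 => ?_⟩
  rw [Perm.mul_apply, hw2 x hx1 hx2]
  apply swap_apply_of_ne_of_ne
  · rintro rfl; exact hx2 h1
  · rintro rfl; exact hx2 rfl

theorem exists_ne_of_two_le [Finite Ω] {f : Ω → ι} (x : Ω) (h : 2 ≤ Nat.card {y // f y = f x}) :
    ∃ y, y ≠ x ∧ f y = f x := by
  have : Nontrivial {y // f y = f x} := Finite.one_lt_card_iff_nontrivial.1 h
  obtain ⟨y, hy⟩ := exists_ne (⟨x, rfl⟩ : {y // f y = f x})
  exact ⟨y, fun h => hy (Subtype.ext h), y.2⟩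

theorem exists_pair_of_two_le [Finite Ω] {f : Ω → ι} (i : ι) (h : 2 ≤ Nat.card {y // f y = i}) :
    ∃ p q, p ≠ q ∧ f p = i ∧ f q = i := by
  have : Nontrivial {y // f y = i} := Finite.one_lt_card_iff_nontrivial.1 h
  obtain ⟨p, q, hpq⟩ := exists_pair_ne {y // f y = i}
  exact ⟨p, q, fun h => hpq (Subtype.ext h), p.2, q.2⟩

theorem exists_pair_of_three_le [Finite Ω] {f : Ω → ι} (x : Ω) (h : 3 ≤ Nat.card {y // f y = f x}) :
    ∃ p q, p ≠ q ∧ p ≠ x ∧ q ≠ x ∧ f p = f x ∧ f q = f x := by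
  classical
  have := Fintype.ofFinite {y // f y = f x}
  rw [Nat.card_eq_fintype_card] at h
  have h2 : 1 < (Finset.univ.erase (⟨x, rfl⟩ : {y // f y = f x})).card := by
    rw [Finset.card_erase_of_mem (Finset.mem_univ _), Finset.card_univ]; omega
  obtain ⟨p, hp, q, hq, hpq⟩ := Finset.one_lt_card.1 h2
  exact ⟨p, q, fun h => hpq (Subtype.ext h), fun h => (Finset.mem_erase.1 hp).1 (Subtype.ext h),
    fun h => (Finset.mem_erase.1 hq).1 (Subtype.ext h), p.2, q.2⟩

theorem swap_not_mem_partStab [DecidableEq Ω] {f : Ω → ι} {x x' y : Ω} (hx : x' ≠ x) (hf : f x' = f x)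
    (hy : f y ≠ f x) : swap x y ∉ partStab f := by
  intro h
  have h1 := (h x x').1 hf.symm
  rw [swap_apply_left, swap_apply_of_ne_of_ne hx (by rintro rfl; exact hy hf)] at h1
  exact hy (h1.trans hf)

/-- The imprimitive wreath product is maximal in the symmetric group. -/
theorem isCoatom_partStab [Finite Ω] [Nontrivial ι] {a : ℕ} (ha : 2 ≤ a) (f : Ω → ι)
    (hf : ∀ i, Nat.card {x : Ω // f x = i} = a) : IsCoatom (partStab f) := by
  classical
  have := Fintype.ofFinite Ω
  constructor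
  · intro h
    obtain ⟨i, j, hij⟩ := exists_pair_ne ι
    obtain ⟨p, q, hpq, hp, hq⟩ := exists_pair_of_two_le (f := f) i (by rw [hf]; exact ha)
    obtain ⟨r, -, -, hr, -⟩ := exists_pair_of_two_le (f := f) j (by rw [hf]; exact ha)
    exact swap_not_mem_partStab (x := q) (x' := p) (y := r) hpq (hp.trans hq.symm)
      (by rw [hr, hq]; exact hij.symm) (h ▸ Subgroup.mem_top _)
  · intro K hK
    obtain ⟨g, hg, x, y, hxy, hne⟩ := exists_break hK.not_ge
    have h1 : swap (g x) (g y) ∈ K := by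
      rw [swap_apply_apply]
      exact K.mul_mem (K.mul_mem hg (hK.le (swap_mem_partStab hxy))) (K.inv_mem hg)
    rw [eq_top_iff, ← closure_isSwap, Subgroup.closure_le]
    rintro _ ⟨p, q, hpq, rfl⟩
    by_cases h : f p = f q
    · exact hK.le (swap_mem_partStab h)
    obtain ⟨w1, hw1, hw1', -⟩ := exists_move f (g x) p (by rw [hf, hf])
    obtain ⟨w2, hw2, hw2', hw2''⟩ := exists_move f (w1 (g y)) q (by rw [hf, hf])
    have h2 : f p ≠ f (w1 (g y)) := by
      rw [← hw1']; exact fun h => hne ((hw1 _ _).2 h)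
    have h3 : swap p q = (w2 * w1) * swap (g x) (g y) * (w2 * w1)⁻¹ := by
      rw [← swap_apply_apply, Perm.mul_apply, Perm.mul_apply, hw1', hw2', hw2'' p h2 h]
    have h4 : w2 * w1 ∈ K := hK.le ((partStab f).mul_mem hw2 hw1)
    show swap p q ∈ K
    rw [h3]
    exact K.mul_mem (K.mul_mem h4 h1) (K.inv_mem h4)

section Alt

variable [Fintype Ω] [DecidableEq Ω]

theorem exists_even_fix {f : Ω → ι} {w : Perm Ω} (hw : w ∈ partStab f) {p q : Ω} (hpq : p ≠ q)
    (hf : f p = f q) :
    ∃ w' ∈ partStab f ⊓ alternatingGroup Ω, ∀ t, w t ≠ p → w t ≠ q → w' t = w t := by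
  rcases Int.units_eq_one_or (sign w) with h | h
  · exact ⟨w, ⟨hw, h⟩, fun _ _ _ => rfl⟩
  · refine ⟨swap p q * w, ⟨(partStab f).mul_mem (swap_mem_partStab hf) hw, ?_⟩, fun t h1 h2 => ?_⟩
    · show swap p q * w ∈ alternatingGroup Ω
      rw [mem_alternatingGroup, Perm.sign_mul, sign_swap hpq, h]; simp
    · rw [Perm.mul_apply, swap_apply_of_ne_of_ne h1 h2]

theorem exists_even_move [Nontrivial ι] {a : ℕ} (ha : 2 ≤ a) {f : Ω → ι}
    (hf : ∀ i, Nat.card {x : Ω // f x = i} = a) (y z : Ω) :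
    ∃ w ∈ partStab f ⊓ alternatingGroup Ω, w y = z := by
  obtain ⟨w, hw, hwy, -⟩ := exists_move f y z (by rw [hf, hf])
  obtain ⟨j, hj⟩ := exists_ne (f z)
  obtain ⟨p, q, hpq, hp, hq⟩ := exists_pair_of_two_le (f := f) j (by rw [hf]; exact ha)
  obtain ⟨w', hw', h⟩ := exists_even_fix hw hpq (hp.trans hq.symm)
  refine ⟨w', hw', ?_⟩
  rw [h y, hwy] <;> rw [hwy] <;> rintro rfl
  · exact hj hp.symm
  · exact hj hq.symm

theorem exists_even_move_in [Nontrivial ι] {a : ℕ} (ha : 2 ≤ a) {f : Ω → ι}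
    (hf : ∀ i, Nat.card {x : Ω // f x = i} = a) {x y z : Ω} (hy : y ≠ x) (hz : z ≠ x)
    (hfy : f y = f x) (hfz : f z = f x) :
    ∃ w ∈ partStab f ⊓ alternatingGroup Ω, w x = x ∧ w y = z := by
  obtain ⟨j, hj⟩ := exists_ne (f x)
  obtain ⟨p, q, hpq, hp, hq⟩ := exists_pair_of_two_le (f := f) j (by rw [hf]; exact ha)
  obtain ⟨w', hw', h⟩ := exists_even_fix (swap_mem_partStab (hfy.trans hfz.symm)) hpq (hp.trans hq.symm)
  have h1 : swap y z x = x := swap_apply_of_ne_of_ne hy.symm hz.symm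
  refine ⟨w', hw', ?_, ?_⟩
  · rw [h x, h1] <;> rw [h1] <;> rintro rfl
    · exact hj hp.symm
    · exact hj hq.symm
  · rw [h y, swap_apply_left] <;> rw [swap_apply_left] <;> rintro rfl
    · exact hj (hp.symm.trans hfz)
    · exact hj (hq.symm.trans hfz)

theorem exists_even_move_out [Finite ι] {a : ℕ} (ha : 2 ≤ a) {f : Ω → ι}
    (hf : ∀ i, Nat.card {x : Ω // f x = i} = a) (h3 : 3 ≤ a ∨ 3 ≤ Nat.card ι) {x y z : Ω}
    (hfy : f y ≠ f x) (hfz : f z ≠ f x) :
    ∃ w ∈ partStab f ⊓ alternatingGroup Ω, w x = x ∧ w y = z := by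
  classical
  obtain ⟨w, hw, hwy, hwx⟩ := exists_move f y z (by rw [hf, hf])
  have hx : w x = x := hwx x hfy.symm hfz.symm
  obtain ⟨p, q, hpq, hf', hpx, hqx, hpz, hqz⟩ :
      ∃ p q, p ≠ q ∧ f p = f q ∧ p ≠ x ∧ q ≠ x ∧ p ≠ z ∧ q ≠ z := by
    rcases h3 with h3 | h3
    · obtain ⟨p, q, hpq, hpx, hqx, hp, hq⟩ := exists_pair_of_three_le (f := f) x (by rw [hf]; exact h3)
      refine ⟨p, q, hpq, hp.trans hq.symm, hpx, hqx, ?_, ?_⟩ <;> rintro rfl
      · exact hfz hp
      · exact hfz hq
    · have := Fintype.ofFinite ι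
      rw [Nat.card_eq_fintype_card] at h3
      obtain ⟨j, -, hj⟩ := Finset.exists_mem_notMem_of_card_lt_card
        (s := ({f x, f z} : Finset ι)) (t := Finset.univ)
        (lt_of_le_of_lt Finset.card_le_two (by rw [Finset.card_univ]; omega))
      simp only [Finset.mem_insert, Finset.mem_singleton, not_or] at hj
      obtain ⟨p, q, hpq, hp, hq⟩ := exists_pair_of_two_le (f := f) j (by rw [hf]; exact ha)
      refine ⟨p, q, hpq, hp.trans hq.symm, ?_, ?_, ?_, ?_⟩ <;> rintro rfl
      · exact hj.1 hp.symm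
      · exact hj.1 hq.symm
      · exact hj.2 hp.symm
      · exact hj.2 hq.symm
  obtain ⟨w', hw', h⟩ := exists_even_fix hw hpq hf'
  refine ⟨w', hw', ?_, ?_⟩
  · rw [h x (by rw [hx]; exact hpx.symm) (by rw [hx]; exact hqx.symm), hx]
  · rw [h y (by rw [hwy]; exact hpz.symm) (by rw [hwy]; exact hqz.symm), hwy]

/-- An overgroup of the even part of the wreath product that does not preserve the partition is primitive. -/
theorem isPreprimitive_of_not_le [Finite ι] [Nontrivial ι] {a : ℕ} (ha : 2 ≤ a) {f : Ω → ι}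
    (hf : ∀ i, Nat.card {x : Ω // f x = i} = a) (h3 : 3 ≤ a ∨ 3 ≤ Nat.card ι)
    {K : Subgroup (Perm Ω)} (hWK : partStab f ⊓ alternatingGroup Ω ≤ K) (hK : ¬ K ≤ partStab f) :
    IsPreprimitive K Ω := by
  have htr : IsPretransitive K Ω := ⟨fun y z => by
    obtain ⟨w, hw, h⟩ := exists_even_move ha hf y z
    exact ⟨⟨w, hWK hw⟩, h⟩⟩
  obtain ⟨g, hg, u, v, huv, hne⟩ := exists_break hK
  refine IsPreprimitive.of_isTrivialBlock_base u (fun {B} hu hB => ?_)
  have hB' : ∀ w ∈ K, ∀ x ∈ B, w x ∈ B → ∀ y ∈ B, w y ∈ B := by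
    intro w hw x hx hwx y hy
    have := (isBlock_iff_smul_eq_of_mem.1 hB) (g := ⟨w, hw⟩) hx hwx
    rw [← this]
    exact ⟨y, hy, rfl⟩
  by_cases h1 : ∃ y ∈ B, f y ≠ f u
  · right
    obtain ⟨y, hy, hyu⟩ := h1
    have h2 : ∀ x ∈ B, ∀ y ∈ B, f y ≠ f x → ∀ z, f z ≠ f x → z ∈ B := by
      intro x hx y hy hyx z hz
      obtain ⟨w, hw, hwx, hwy⟩ := exists_even_move_out ha hf h3 hyx hz
      rw [← hwy]
      exact hB' w (hWK hw) x hx (by rw [hwx]; exact hx) y hy
    rw [Set.eq_univ_iff_forall]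
    intro z
    by_cases hz : f z = f u
    · exact h2 y hy u hu hyu.symm z (by rw [hz]; exact hyu.symm)
    · exact h2 u hu y hy hyu z hz
  · left
    push Not at h1
    by_contra hns
    rw [Set.not_subsingleton_iff] at hns
    obtain ⟨y, hy, hyu⟩ := hns.exists_ne u
    have h2 : ∀ z, f z = f u → z ∈ B := by
      intro z hz
      by_cases hzu : z = u
      · rw [hzu]; exact hu
      obtain ⟨w, hw, hwx, hwy⟩ := exists_even_move_in ha hf hyu hzu (h1 y hy) hz
      rw [← hwy]
      exact hB' w (hWK hw) u hu (by rw [hwx]; exact hu) y hy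
    obtain ⟨w, hw, hwu⟩ := exists_even_move ha hf (g u) u
    have h4 := hB' (w * g) (K.mul_mem (hWK hw) hg) u hu (by rw [Perm.mul_apply, hwu]; exact hu) v
      (h2 v huv.symm)
    apply hne
    rw [hw.1, hwu]
    exact (h1 _ h4).symm

theorem isThreeCycle_swap_mul_swap {v v' c d : Ω} (hv : v ≠ v') (hc : c ≠ d)
    (h1 : v = c ∨ v = d ∨ v' = c ∨ v' = d) (h2 : ¬ (v = c ∧ v' = d)) (h3 : ¬ (v = d ∧ v' = c)) :
    IsThreeCycle (swap v v' * swap c d) := by
  rcases h1 with rfl | rfl | rfl | rfl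
  · exact isThreeCycle_swap_mul_swap_same hv hc (fun h => h2 ⟨rfl, h⟩)
  · rw [swap_comm c v]
    exact isThreeCycle_swap_mul_swap_same hv hc.symm (fun h => h3 ⟨rfl, h⟩)
  · rw [swap_comm v v']
    exact isThreeCycle_swap_mul_swap_same hv.symm hc (fun h => h3 ⟨h, rfl⟩)
  · rw [swap_comm v v', swap_comm c v']
    exact isThreeCycle_swap_mul_swap_same hv.symm hc.symm (fun h => h2 ⟨h, rfl⟩)

theorem swap_mul_swap_mem_alt {a b c d : Ω} (h1 : a ≠ b) (h2 : c ≠ d) :
    swap a b * swap c d ∈ alternatingGroup Ω := by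
  rw [mem_alternatingGroup, Perm.sign_mul, sign_swap h1, sign_swap h2]; simp

omit [Fintype Ω] [DecidableEq Ω] in
theorem exists_partner {f : Ω → ι} (hf : ∀ i, Nat.card {x : Ω // f x = i} = 2) (x : Ω) :
    ∃ x', x' ≠ x ∧ f x' = f x ∧ ∀ y, f y = f x → y = x ∨ y = x' := by
  obtain ⟨p, hp, huniq⟩ := (Nat.card_eq_two_iff' (⟨x, rfl⟩ : {y // f y = f x})).1 (hf (f x))
  refine ⟨p, fun h => hp (Subtype.ext h), p.2, fun y hy => ?_⟩
  by_cases h : y = x
  · exact Or.inl h
  · exact Or.inr (congrArg Subtype.val (huniq ⟨y, hy⟩ (fun h' => h (congrArg Subtype.val h'))))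

theorem exists_threeCycle_of_pairs [Finite ι] {f : Ω → ι}
    (hf : ∀ i, Nat.card {x : Ω // f x = i} = 2) (h3 : 3 ≤ Nat.card ι) (h4 : Nat.card ι ≠ 4)
    {K : Subgroup (Perm Ω)} (hWK : partStab f ⊓ alternatingGroup Ω ≤ K) (hK : ¬ K ≤ partStab f) :
    ∃ g ∈ K, IsThreeCycle g := by
  classical
  have := Fintype.ofFinite ι
  rw [Nat.card_eq_fintype_card] at h3 h4
  obtain ⟨g, hg, x, x', hxx, hne⟩ := exists_break hK
  have hxx' : x ≠ x' := by rintro rfl; exact hne rfl
  obtain ⟨ub, hub1, hub2, hub3⟩ := exists_partner hf (g x)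
  obtain ⟨ub', hub1', hub2', hub3'⟩ := exists_partner hf (g x')
  have hss : ∀ p q r s : Ω, p ≠ q → f p = f q → r ≠ s → f r = f s → swap p q * swap r s ∈ K :=
    fun p q r s h1 h2 h3 h4 => hWK ⟨(partStab f).mul_mem (swap_mem_partStab h2) (swap_mem_partStab h4),
      swap_mul_swap_mem_alt h1 h3⟩
  -- choose a block whose image is not `{ub, ub'}`
  obtain ⟨j, -, hj⟩ := Finset.exists_mem_notMem_of_card_lt_card
    (s := ({f x, f (g⁻¹ ub)} : Finset ι)) (t := Finset.univ)
    (lt_of_le_of_lt Finset.card_le_two (by rw [Finset.card_univ]; omega))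
  simp only [Finset.mem_insert, Finset.mem_singleton, not_or] at hj
  obtain ⟨y, y', hyy, hy, hy'⟩ := exists_pair_of_two_le (f := f) j (by rw [hf])
  have hv : g y ≠ ub := by
    rintro rfl; apply hj.2; simp [hy]
  have hv' : g y' ≠ ub := by
    rintro rfl; apply hj.2; simp [hy']
  have hvu : g y ≠ g x := fun h => hj.1 (by rw [← hy, g.injective h])
  have hvu' : g y ≠ g x' := fun h => hj.1 (by rw [← hy, g.injective h, hxx])
  have hv'u : g y' ≠ g x := fun h => hj.1 (by rw [← hy', g.injective h])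
  have hv'u' : g y' ≠ g x' := fun h => hj.1 (by rw [← hy', g.injective h, hxx])
  have hvv : g y ≠ g y' := fun h => hyy (g.injective h)
  have ht : swap (g x) (g x') * swap (g y) (g y') ∈ K := by
    have : swap (g x) (g x') * swap (g y) (g y') = g * (swap x x' * swap y y') * g⁻¹ := by
      rw [swap_apply_apply, swap_apply_apply]; group
    rw [this]
    exact K.mul_mem (K.mul_mem hg (hss _ _ _ _ hxx' hxx hyy (hy.trans hy'.symm))) (K.inv_mem hg)
  generalize g x = u at *
  generalize g x' = u' at *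
  generalize g y = v at *
  generalize g y' = v' at *
  have huu : u ≠ u' := by rintro rfl; exact hne rfl
  have hubu' : ub ≠ u' := by rintro rfl; exact hne hub2.symm
  have huub' : u ≠ ub' := by rintro rfl; exact hne hub2'
  have hubb : ub ≠ ub' := by rintro rfl; exact hne (hub2.symm.trans hub2')
  by_cases hc : v = ub' ∨ v' = ub'
  · have hr : swap u u' * swap ub ub' ∈ K := by
      refine hWK ⟨mem_partStab_of_comp _ (swap (f u) (f u')).injective (fun z => ?_),
        swap_mul_swap_mem_alt huu hubb⟩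
      rw [Perm.mul_apply]
      by_cases hz : f z = f u
      · rw [hz, swap_apply_left]
        rcases hub3 z hz with rfl | rfl
        · rw [swap_apply_of_ne_of_ne hub1.symm huub', swap_apply_left]
        · rw [swap_apply_left, swap_apply_of_ne_of_ne huub'.symm hub1', hub2']
      by_cases hz' : f z = f u'
      · rw [hz', swap_apply_right]
        rcases hub3' z hz' with rfl | rfl
        · rw [swap_apply_of_ne_of_ne hubu'.symm hub1'.symm, swap_apply_right]
        · rw [swap_apply_right, swap_apply_of_ne_of_ne hub1 hubu', hub2]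
      rw [swap_apply_of_ne_of_ne hz hz', swap_apply_of_ne_of_ne (a := ub) (x := z),
        swap_apply_of_ne_of_ne]
      · rintro rfl; exact hz rfl
      · rintro rfl; exact hz' rfl
      · rintro rfl; exact hz hub2
      · rintro rfl; exact hz' hub2'
    refine ⟨swap v v' * swap ub ub', ?_, isThreeCycle_swap_mul_swap hvv hubb (by tauto) (by tauto) (by tauto)⟩
    have : swap v v' * swap ub ub' = (swap u u' * swap v v')⁻¹ * (swap u u' * swap ub ub') := by
      simp [mul_assoc]
    rw [this]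
    exact K.mul_mem (K.inv_mem ht) hr
  push Not at hc
  by_cases hfv : f v = f v'
  · refine ⟨swap u u' * swap u ub, ?_, isThreeCycle_swap_mul_swap_same huu hub1.symm hubu'.symm⟩
    have : swap u u' * swap u ub = (swap u u' * swap v v') * (swap v v' * swap u ub) := by
      simp [mul_assoc]
    rw [this]
    exact K.mul_mem ht (hss _ _ _ _ hvv hfv hub1.symm hub2.symm)
  have hfvu : f v ≠ f u := fun h => by rcases hub3 v h with h | h <;> contradiction
  have hfvu' : f v ≠ f u' := fun h => by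
    rcases hub3' v h with h | h
    · exact hvu' h
    · exact hc.1 h
  have hfv'u : f v' ≠ f u := fun h => by rcases hub3 v' h with h | h <;> contradiction
  have hfv'u' : f v' ≠ f u' := fun h => by
    rcases hub3' v' h with h | h
    · exact hv'u' h
    · exact hc.2 h
  have hcard : ({f u, f u', f v, f v'} : Finset ι).card = 4 := by
    rw [Finset.card_insert_of_notMem, Finset.card_insert_of_notMem, Finset.card_pair hfv]
    · simp only [Finset.mem_insert, Finset.mem_singleton, not_or]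
      exact ⟨hfvu'.symm, hfv'u'.symm⟩
    · simp only [Finset.mem_insert, Finset.mem_singleton, not_or]
      exact ⟨hne, hfvu.symm, hfv'u.symm⟩
  have hle := Finset.card_le_univ ({f u, f u', f v, f v'} : Finset ι)
  obtain ⟨k, -, hk⟩ := Finset.exists_mem_notMem_of_card_lt_card
    (s := ({f u, f u', f v, f v'} : Finset ι)) (t := Finset.univ)
    (by rw [Finset.card_univ]; omega)
  simp only [Finset.mem_insert, Finset.mem_singleton, not_or] at hk
  obtain ⟨w, w', hww, hw, hw'⟩ := exists_pair_of_two_le (f := f) k (by rw [hf])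
  have hs : swap u ub * swap w w' ∈ K := hss _ _ _ _ hub1.symm hub2.symm hww (hw.trans hw'.symm)
  refine ⟨swap ub u' * swap ub u, ?_, isThreeCycle_swap_mul_swap_same hubu' hub1 huu.symm⟩
  have hfix : ∀ z, f z = k → (swap u u' * swap v v') z = z := by
    intro z hz
    rw [Perm.mul_apply, swap_apply_of_ne_of_ne (x := z) (a := v), swap_apply_of_ne_of_ne] <;> rintro rfl
    · exact hk.1 hz.symm
    · exact hk.2.1 hz.symm
    · exact hk.2.2.1 hz.symm
    · exact hk.2.2.2 hz.symm
  have e1 : (swap u u' * swap v v') * swap u ub * (swap u u' * swap v v')⁻¹ = swap u' ub := by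
    rw [← swap_apply_apply, Perm.mul_apply, Perm.mul_apply, swap_apply_of_ne_of_ne hvu.symm hv'u.symm,
      swap_apply_left, swap_apply_of_ne_of_ne hv.symm hv'.symm, swap_apply_of_ne_of_ne hub1 hubu']
  have e2 : (swap u u' * swap v v') * swap w w' * (swap u u' * swap v v')⁻¹ = swap w w' := by
    rw [← swap_apply_apply, hfix w hw, hfix w' hw']
  have : swap ub u' * swap ub u = (swap u u' * swap v v') * (swap u ub * swap w w') *
      (swap u u' * swap v v')⁻¹ * (swap u ub * swap w w')⁻¹ := by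
    generalize swap u u' * swap v v' = t at *
    calc swap ub u' * swap ub u = (t * swap u ub * t⁻¹) * (t * swap w w' * t⁻¹) * (swap u ub * swap w w')⁻¹ := by
          rw [e1, e2, swap_comm ub u', swap_comm ub u]; simp [mul_assoc]
      _ = _ := by group
  rw [this]
  exact K.mul_mem (K.mul_mem (K.mul_mem ht hs) (K.inv_mem ht)) (K.inv_mem hs)

omit [DecidableEq Ω] in
theorem card_eq_of_fibres [Finite ι] {a : ℕ} {f : Ω → ι} (hf : ∀ i, Nat.card {x : Ω // f x = i} = a) :
    Fintype.card Ω = Nat.card ι * a := by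
  have := Fintype.ofFinite ι
  rw [← Nat.card_eq_fintype_card, ← Nat.card_congr (Equiv.sigmaFiberEquiv f), Nat.card_sigma]
  simp [hf]

theorem alternatingGroup_le_of_not_le [Finite ι] [Nontrivial ι] {a : ℕ} (ha : 2 ≤ a) {f : Ω → ι}
    (hf : ∀ i, Nat.card {x : Ω // f x = i} = a) (h8 : Fintype.card Ω ≠ 8)
    {K : Subgroup (Perm Ω)} (hWK : partStab f ⊓ alternatingGroup Ω ≤ K) (hKA : K ≤ alternatingGroup Ω)
    (hK : ¬ K ≤ partStab f) : alternatingGroup Ω ≤ K := by
  have hcard := card_eq_of_fibres hf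
  have hι : 2 ≤ Nat.card ι := Finite.one_lt_card
  by_cases h3 : 3 ≤ a ∨ 3 ≤ Nat.card ι
  · have hprim := isPreprimitive_of_not_le ha hf h3 hWK hK
    obtain ⟨g, hg, h3g⟩ : ∃ g ∈ K, IsThreeCycle g := by
      by_cases ha3 : 3 ≤ a
      · obtain ⟨i⟩ : Nonempty ι := inferInstance
        obtain ⟨x, -, -, hx, -⟩ := exists_pair_of_two_le (f := f) i (by rw [hf]; exact ha)
        obtain ⟨p, q, hpq, hp, hq, hfp, hfq⟩ := exists_pair_of_three_le (f := f) x (by rw [hf]; exact ha3)
        exact ⟨swap x p * swap x q, hWK ⟨(partStab f).mul_mem (swap_mem_partStab hfp.symm)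
          (swap_mem_partStab hfq.symm), swap_mul_swap_mem_alt hp.symm hq.symm⟩,
          isThreeCycle_swap_mul_swap_same hp.symm hq.symm hpq⟩
      · obtain rfl : a = 2 := by omega
        exact exists_threeCycle_of_pairs hf (by omega) (by omega) hWK hK
    exact alternatingGroup_le_of_isPreprimitive_of_isThreeCycle_mem hprim h3g hg
  · obtain rfl : a = 2 := by omega
    have hι2 : Nat.card ι = 2 := by omega
    rw [hι2] at hcard
    have htr : IsPretransitive K Ω := ⟨fun y z => by
      obtain ⟨w, hw, h⟩ := exists_even_move ha hf y z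
      exact ⟨⟨w, hWK hw⟩, h⟩⟩
    obtain ⟨g, hg, u, v, huv, hne⟩ := exists_break hK
    obtain ⟨w, hw, hwu⟩ := exists_even_move ha hf (g u) u
    have hK1 : w * g ∈ K := K.mul_mem (hWK hw) hg
    have h1 : w * g ≠ 1 := by
      intro h
      apply hne
      rw [hw.1, ← Perm.mul_apply, ← Perm.mul_apply, h]
      exact huv
    have h2 : (w * g).support.card ≤ 3 := by
      have : (w * g).support ⊆ Finset.univ.erase u := by
        intro z hz
        rw [Finset.mem_erase]
        refine ⟨?_, Finset.mem_univ _⟩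
        rintro rfl
        exact (mem_support.1 hz) hwu
      have := Finset.card_le_card this
      rw [Finset.card_erase_of_mem (Finset.mem_univ _), Finset.card_univ] at this
      omega
    have h3' : IsThreeCycle (w * g) := by
      rw [← card_support_eq_three_iff]
      have h4 := two_le_card_support_of_ne_one h1
      have h5 : (w * g).support.card ≠ 2 := by
        intro h
        have h6 := (card_support_eq_two.1 h).sign_eq
        rw [mem_alternatingGroup.1 (hKA hK1)] at h6
        exact absurd h6 (by decide)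
      omega
    have d3 : 3 ∣ Nat.card K := by
      rw [← h3'.orderOf]
      exact Subgroup.orderOf_dvd_natCard K hK1
    have d4 : 4 ∣ Nat.card K := by
      have := index_stabilizer_of_transitive K u
      rw [Nat.card_eq_fintype_card, hcard] at this
      have h7 := Subgroup.index_dvd_card (stabilizer K u)
      rwa [this] at h7
    have d12 : 12 ∣ Nat.card K := Nat.Coprime.mul_dvd_of_dvd_of_dvd (by norm_num : Nat.Coprime 3 4) d3 d4
    have hA : Nat.card (alternatingGroup Ω) = 12 :=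
      alternatingGroup.card_of_card_eq_four (by rw [Nat.card_eq_fintype_card, hcard])
    exact (Subgroup.eq_of_le_of_card_ge hKA (hA ▸ Nat.le_of_dvd Nat.card_pos d12)).ge

/-- The even part of the imprimitive wreath product is maximal in the alternating group in degree other
than eight. -/
theorem isCoatom_partStab_alt [Finite ι] [Nontrivial ι] {a : ℕ} (ha : 2 ≤ a) {f : Ω → ι}
    (hf : ∀ i, Nat.card {x : Ω // f x = i} = a) (h8 : Fintype.card Ω ≠ 8) :
    IsCoatom ((partStab f ⊓ alternatingGroup Ω).subgroupOf (alternatingGroup Ω)) := by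
  constructor
  · rw [Ne, Subgroup.subgroupOf_eq_top]
    intro h
    obtain ⟨i, j, hij⟩ := exists_pair_ne ι
    obtain ⟨p, q, hpq, hp, hq⟩ := exists_pair_of_two_le (f := f) i (by rw [hf]; exact ha)
    obtain ⟨r, s, hrs, hr, hs⟩ := exists_pair_of_two_le (f := f) j (by rw [hf]; exact ha)
    have hqr : q ≠ r := by rintro rfl; exact hij (hq.symm.trans hr)
    have h1 := (h (swap_mul_swap_mem_alt hqr hrs)).1
    have h2 := (partStab f).mul_mem h1 (swap_mem_partStab (hr.trans hs.symm))
    rw [mul_assoc, swap_mul_self, mul_one] at h2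
    exact swap_not_mem_partStab (x := q) (x' := p) (y := r) hpq (hp.trans hq.symm)
      (by rw [hr, hq]; exact hij.symm) h2
  · intro K' hK'
    have hWK : partStab f ⊓ alternatingGroup Ω ≤ K'.map (alternatingGroup Ω).subtype := by
      intro g hg
      exact ⟨⟨g, hg.2⟩, hK'.le hg, rfl⟩
    have := alternatingGroup_le_of_not_le ha hf h8 hWK (Subgroup.map_subtype_le _) (fun h => hK'.not_ge
      (fun g hg => ⟨h ⟨g, hg, rfl⟩, g.2⟩))
    rw [eq_top_iff]
    intro g _
    obtain ⟨g', hg', he⟩ := this g.2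
    rw [← Subtype.ext he]; exact hg'

end Alt

end H98
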